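import Cfsg.Agent.Lib.ConwayRec.Closure
import Cfsg.Agent.Lib.ConwayRec.DataLab

/-!
The table of edge classes is right.
-/

set_option autoImplicit false
set_option maxRecDepth 1000000

namespace CfsgLib.ConwayRec

theorem lab_ok0 : labOK theLab 0 600 = true := by decide +kernel

theorem nxt_ok0 : nxtOK theLab theNxt 0 600 = true := by decide +kernel

theorem lab_ok1 : labOK theLab 600 600 = true := by decide +kernel

theorem nxt_ok1 : nxtOK theLab theNxt 600 600 = true := by decide +kernel

theorem lab_ok2 : labOK theLab 1200 571 = true := by decide +kernel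

theorem nxt_ok2 : nxtOK theLab theNxt 1200 571 = true := by decide +kernel

theorem lab_ok : ∀ s < 1771, labOK theLab s 1 = true := by
  intro s hs
  by_cases h0 : s < 600
  · exact labOK.at lab_ok0 (by omega) (by omega)
  by_cases h1 : s < 1200
  · exact labOK.at lab_ok1 (by omega) (by omega)
  exact labOK.at lab_ok2 (by omega) (by omega)

theorem nxt_ok : ∀ s < 1771, nxtOK theLab theNxt s 1 = true := by
  intro s hs
  by_cases h0 : s < 600
  · exact nxtOK.at nxt_ok0 (by omega) (by omega)
  by_cases h1 : s < 1200
  · exact nxtOK.at nxt_ok1 (by omega) (by omega)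
  exact nxtOK.at nxt_ok2 (by omega) (by omega)

end CfsgLib.ConwayRec
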