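import Cfsg.Agent.Lib.ConwayRec.Closure
import Cfsg.Agent.Lib.ConwayRec.DataRules
import Cfsg.Agent.Lib.ConwayRec.DataLab
import Cfsg.Agent.Lib.ConwayRec.DataReps

/-!
The spreading over the edge classes is right.
-/

set_option autoImplicit false
set_option maxRecDepth 1000000

namespace CfsgLib.ConwayRec

/-- The certificate. -/
def theCert : Cert := ⟨theUT, theRules, theLab, theNxt, theWS, theST, theRT, theMK⟩

theorem stab_ok : stabOK theUT = true := by decide +kernel

theorem reps_ok : repsOK theCert = true := by decide +kernel

theorem roots_ok1 : rootOK theCert 1 = true := by decide +kernel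

theorem carry_ok1 : carryOK theCert 1 = true := by decide +kernel

theorem spread_ok1 : spreadOK theCert 1 = true := by decide +kernel

theorem roots_ok2 : rootOK theCert 2 = true := by decide +kernel

theorem carry_ok2 : carryOK theCert 2 = true := by decide +kernel

theorem spread_ok2 : spreadOK theCert 2 = true := by decide +kernel

theorem roots_ok3 : rootOK theCert 3 = true := by decide +kernel

theorem carry_ok3 : carryOK theCert 3 = true := by decide +kernel

theorem spread_ok3 : spreadOK theCert 3 = true := by decide +kernel

theorem roots_ok4 : rootOK theCert 4 = true := by decide +kernel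

theorem carry_ok4 : carryOK theCert 4 = true := by decide +kernel

theorem spread_ok4 : spreadOK theCert 4 = true := by decide +kernel

theorem roots_ok5 : rootOK theCert 5 = true := by decide +kernel

theorem carry_ok5 : carryOK theCert 5 = true := by decide +kernel

theorem spread_ok5 : spreadOK theCert 5 = true := by decide +kernel

end CfsgLib.ConwayRec
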