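import Cfsg.Agent.Lib.ConwayRec.CheckRules
import Cfsg.Agent.Lib.ConwayRec.CheckLab
import Cfsg.Agent.Lib.ConwayRec.CheckReps

/-!
The bound on groups glued from the centralisers of the octad involutions.
-/

set_option autoImplicit false

namespace CfsgLib.ConwayRec

open Cfsg CfsgLeech

theorem cert_ok : theCert.OK where
  stab := stab_ok
  rules := rules_ok
  labs := lab_ok
  nxt := nxt_ok
  reps := reps_ok
  roots := fun k hk h0 => by interval_cases k; exacts [roots_ok1, roots_ok2, roots_ok3, roots_ok4, roots_ok5]
  carry := fun k hk h0 => by interval_cases k; exacts [carry_ok1, carry_ok2, carry_ok3, carry_ok4, carry_ok5]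
  spreads := fun k hk h0 => by interval_cases k; exacts [spread_ok1, spread_ok2, spread_ok3, spread_ok4, spread_ok5]

/-- A group glued from the centralisers is small. -/
theorem Amal.card_le {G : Type*} [Group G] [Finite G] {ι : ↥Out1.NI →* G} {zh : G} (H : Amal ι zh) :
    Nat.card ↥(Subgroup.closure (Set.range ι ∪ {zh})) ≤ 6 * (Nat.card ↥Out1.NI * Nat.card ↥Out1.NI) :=
  H.bound cert_ok

end CfsgLib.ConwayRec
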