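import Cfsg.Agent.Lib.ConwayRec.Closure
import Cfsg.Agent.Lib.ConwayRec.DataRules

/-!
The rules are right.
-/

set_option autoImplicit false
set_option maxRecDepth 1000000

namespace CfsgLib.ConwayRec

theorem rules_len : theRules.length = 1066 := by decide +kernel

theorem rules_ok0 : ((List.range 100).all fun s => ruleOK theRules (0 + s)) = true := by decide +kernel

theorem rules_ok1 : ((List.range 100).all fun s => ruleOK theRules (100 + s)) = true := by decide +kernel

theorem rules_ok2 : ((List.range 100).all fun s => ruleOK theRules (200 + s)) = true := by decide +kernel

theorem rules_ok3 : ((List.range 100).all fun s => ruleOK theRules (300 + s)) = true := by decide +kernel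

theorem rules_ok4 : ((List.range 100).all fun s => ruleOK theRules (400 + s)) = true := by decide +kernel

theorem rules_ok5 : ((List.range 100).all fun s => ruleOK theRules (500 + s)) = true := by decide +kernel

theorem rules_ok6 : ((List.range 100).all fun s => ruleOK theRules (600 + s)) = true := by decide +kernel

theorem rules_ok7 : ((List.range 100).all fun s => ruleOK theRules (700 + s)) = true := by decide +kernel

theorem rules_ok8 : ((List.range 100).all fun s => ruleOK theRules (800 + s)) = true := by decide +kernel

theorem rules_ok9 : ((List.range 100).all fun s => ruleOK theRules (900 + s)) = true := by decide +kernel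

theorem rules_ok10 : ((List.range 66).all fun s => ruleOK theRules (1000 + s)) = true := by decide +kernel

theorem rules_ok : ∀ k < theRules.length, ruleOK theRules k = true := by
  intro k hk
  rw [rules_len] at hk
  by_cases h0 : k < 100
  · exact slice rules_ok0 (by omega) (by omega)
  by_cases h1 : k < 200
  · exact slice rules_ok1 (by omega) (by omega)
  by_cases h2 : k < 300
  · exact slice rules_ok2 (by omega) (by omega)
  by_cases h3 : k < 400
  · exact slice rules_ok3 (by omega) (by omega)
  by_cases h4 : k < 500
  · exact slice rules_ok4 (by omega) (by omega)
  by_cases h5 : k < 600
  · exact slice rules_ok5 (by omega) (by omega)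
  by_cases h6 : k < 700
  · exact slice rules_ok6 (by omega) (by omega)
  by_cases h7 : k < 800
  · exact slice rules_ok7 (by omega) (by omega)
  by_cases h8 : k < 900
  · exact slice rules_ok8 (by omega) (by omega)
  by_cases h9 : k < 1000
  · exact slice rules_ok9 (by omega) (by omega)
  exact slice rules_ok10 (by omega) (by omega)

end CfsgLib.ConwayRec
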