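import Cfsg.Agent.Lib.ConwayRec.Rules
import Cfsg.Agent.Lib.Golay.Sextets
import Cfsg.Agent.Lib.Golay.Std

/-!
The cosets of the stabiliser of an edge: sextets and parities.
-/

set_option autoImplicit false
set_option maxRecDepth 8000

namespace CfsgLib.ConwayRec

open Cfsg CfsgGolay CfsgLeech
open scoped Pointwise symmDiff

attribute [local irreducible] codeL octadL dodecadL slpCodes mco mv pullN nmM mc mperm

theorem six_ok : sixL.length = 6 ∧ (sixL.all fun a => sext0L.contains a) = true ∧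
    (sext0L.all fun a => sixL.contains a) = true ∧ (sixL.contains 147496) = true := by decide +kernel

theorem mem_six {t : Finset GolayPt} : t ∈ S0 ↔ ∃ m ∈ sixL, toSet m = t := by
  rw [mem_S0]
  obtain ⟨-, h1, h2, -⟩ := six_ok
  constructor
  · rintro ⟨m, hm, rfl⟩
    exact ⟨m, List.contains_iff_mem.mp (List.all_eq_true.mp h2 m hm), rfl⟩
  · rintro ⟨m, hm, rfl⟩
    exact ⟨m, List.contains_iff_mem.mp (List.all_eq_true.mp h1 m hm), rfl⟩

/-- The distinguished tetrad. -/
def tet : ℕ := 147496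

/-- The images of the sextet agree. -/
noncomputable def sameSix (a b : Mon) : Bool :=
  sixL.all fun y => sixL.any fun w => Nat.beq (pullN a.1 y) (pullN b.1 w)

/-- The signs differ evenly on the tetrad. -/
noncomputable def evenAt (a b : Mon) : Bool :=
  Nat.beq (Nat.mod (pc (Nat.land (Nat.xor a.2 b.2) (pullN a.1 tet))) 2) 0

theorem smul_S0 {a b : Mon} (ha : Valid a) (hb : Valid b) (h : sameSix a b = true) :
    (mperm a ha : Equiv.Perm GolayPt) • S0 = (mperm b hb : Equiv.Perm GolayPt) • S0 := by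
  refine Finset.eq_of_subset_of_card_le (fun t ht => ?_) (by simp only [Finset.card_smul_finset]; rfl)
  obtain ⟨u, hu, rfl⟩ := Finset.mem_smul_finset.mp ht
  obtain ⟨m, hm, rfl⟩ := mem_six.mp hu
  simp only [sameSix, List.all_eq_true, List.any_eq_true] at h
  obtain ⟨w, hw, e⟩ := h m hm
  rw [← toSet_pull' ha, Nat.eq_of_beq_eq_true e, toSet_pull' hb]
  exact Finset.smul_mem_smul_finset (mem_six.mpr ⟨w, hw, rfl⟩)

theorem even_iff {a b : Mon} (ha : Valid a) :
    evenAt a b = true ↔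
      Even ((symmDiff (toSet a.2) (toSet b.2)) ∩ (mperm a ha : Equiv.Perm GolayPt) • toSet tet).card := by
  rw [← toSet_pull' ha, ← toSet_xor, ← toSet_and, card_toSet, Nat.even_iff]
  show Nat.beq (Nat.mod (pc ((a.2 ^^^ b.2) &&& pullN a.1 tet)) 2) 0 = true ↔ _
  rw [Nat.beq_eq]
  rfl

theorem even_symm_inter {α : Type*} [DecidableEq α] (A B T : Finset α) :
    Even ((symmDiff A B) ∩ T).card ↔ (Even (A ∩ T).card ↔ Even (B ∩ T).card) := by
  have e : (symmDiff A B) ∩ T = ((A ∩ T) \ (B ∩ T)) ∪ ((B ∩ T) \ (A ∩ T)) := by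
    ext x; simp only [Finset.mem_inter, Finset.mem_symmDiff, Finset.mem_union, Finset.mem_sdiff]; tauto
  have hd : Disjoint ((A ∩ T) \ (B ∩ T)) ((B ∩ T) \ (A ∩ T)) := by
    rw [Finset.disjoint_left]; intro x; simp only [Finset.mem_sdiff]; tauto
  rw [e, Finset.card_union_of_disjoint hd]
  have h1 := Finset.card_sdiff_add_card_inter (A ∩ T) (B ∩ T)
  have h2 := Finset.card_sdiff_add_card_inter (B ∩ T) (A ∩ T)
  rw [Finset.inter_comm (B ∩ T) (A ∩ T)] at h2
  simp only [Nat.even_iff]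
  omega

/-- The checks on the sextet stabiliser. -/
noncomputable def stabOK (UT : List (Mon × Mon)) : Bool :=
  (UT.all fun p => okM p.1 && okM p.2 && axOK [p.1, oneM] [oneM, p.2] 8536111 &&
    Nat.beq (Nat.mod (pc (Nat.land p.1.2 tet)) 2) 0) &&
  (gS.all fun e => UT.any fun p => Nat.beq p.1.1 e.c && Nat.beq p.1.2 0) &&
  (sysBasis.all fun c => UT.any fun p => Nat.beq p.1.1 pid &&
    (Nat.beq p.1.2 c || Nat.beq p.1.2 (Nat.xor c 16777215) || Nat.beq p.1.2 (Nat.xor c 340831) ||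
      Nat.beq p.1.2 (Nat.xor (Nat.xor c 340831) 16777215) || Nat.beq c 0))

variable {G : Type*} [Group G] {ι : ↥Out1.NI →* G} {zh : G}

/-- The elements passing through the extra automorphism. -/
def UZ (ι : ↥Out1.NI →* G) (zh : G) : Subgroup ↥Out1.NI where
  carrier := {u | ∃ v : ↥Out1.NI, ι u * zh = zh * ι v}
  one_mem' := ⟨1, by simp⟩
  mul_mem' := by
    rintro a b ⟨v, hv⟩ ⟨w, hw⟩
    exact ⟨v * w, by rw [map_mul, mul_assoc, hw, ← mul_assoc, hv, map_mul, mul_assoc]⟩
  inv_mem' := by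
    rintro a ⟨v, hv⟩
    refine ⟨v⁻¹, ?_⟩
    rw [map_inv, map_inv, inv_mul_eq_iff_eq_mul, ← mul_assoc, eq_mul_inv_iff_mul_eq, hv]

/-- An element of the monomial group from its parts. -/
noncomputable def elN (σ : ↥M24) (c : Finset GolayPt) (hc : c ∈ CW) : ↥Out1.NI := ⟨_, Out1.el_mem σ hc⟩

theorem elN_split (σ : ↥M24) {c : Finset GolayPt} (hc : c ∈ CW) : elN σ c hc = elN 1 c hc * elN σ ∅ CW_empty :=
  Subtype.ext ((Out1.el_split σ hc).trans rfl)

theorem elN_signs {c d : Finset GolayPt} (hc : c ∈ CW) (hd : d ∈ CW) :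
    elN 1 c hc * elN 1 d hd = elN 1 (symmDiff c d) (CW_symmDiff hc hd) := Subtype.ext (Out1.el_sgn_mul hc hd)

theorem mv_elN {n : Mon} (h : Valid n) : mv n = elN (mperm n h) (toSet n.2) h.2.1 := Subtype.ext (mv_el h)

theorem elN_congr {σ τ : ↥M24} {c d : Finset GolayPt} {hc : c ∈ CW} {hd : d ∈ CW} (h : σ = τ) (h' : c = d) :
    elN σ c hc = elN τ d hd := Subtype.ext (Out1.el_congr h h')

theorem UZ.perm (H : Amal ι zh) {UT : List (Mon × Mon)} (hU : stabOK UT = true) {σ : Equiv.Perm GolayPt}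
    (hσ : σ ∈ stabM S0) : ∃ h : σ ∈ M24, elN ⟨σ, h⟩ ∅ CW_empty ∈ UZ ι zh := by
  simp only [stabOK, Bool.and_eq_true, List.all_eq_true, List.any_eq_true] at hU
  obtain ⟨⟨hax, hperm⟩, -⟩ := hU
  have hM := (mem_stabM.mp hσ).1
  refine ⟨hM, ?_⟩
  suffices key : Gr gS ≤ Subgroup.map M24.subtype ((UZ ι zh).comap (MonoidHom.mk' (fun τ : ↥M24 => elN τ ∅ CW_empty)
      fun a b => Subtype.ext (Out1.el_hom_mul a b).symm)) by
    rw [← stabS.1] at hσ
    obtain ⟨τ, hτ, e⟩ := key hσ
    obtain rfl : τ = ⟨σ, hM⟩ := Subtype.ext e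
    exact hτ
  refine Gr_le _ fun e he g hg => ?_
  obtain ⟨⟨u, v⟩, hp, hc⟩ := hperm e he
  simp only [Nat.beq_eq] at hc
  obtain ⟨⟨⟨hu, hv⟩, ha⟩, hev⟩ := hax _ hp
  have hu' := Valid.of_ok hu
  have hv' := Valid.of_ok hv
  have hmem : mv u ∈ UZ ι zh := by
    refine ⟨mv v, ?_⟩
    have := H.ax (A := [u, oneM]) (B := [oneM, v])
      (fun n hn => by
        simp only [List.mem_cons, List.not_mem_nil, or_false] at hn
        rcases hn with rfl | rfl
        exacts [hu', one_valid])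
      (fun n hn => by
        simp only [List.mem_cons, List.not_mem_nil, or_false] at hn
        rcases hn with rfl | rfl
        exacts [one_valid, hv']) ha
    simpa [ev, mv_one] using this
  have hr : Repr u.1 g := hc.1 ▸ hg.1
  have hgM : g ∈ M24 := by
    obtain ⟨k, hk, hkM⟩ := hu'.2.2
    rwa [hr.unique hk]
  refine ⟨⟨g, hgM⟩, ?_, rfl⟩
  rw [SetLike.mem_coe, Subgroup.mem_comap]
  have h2 : mperm u hu' = (⟨g, hgM⟩ : ↥M24)⁻¹ := Subtype.ext (mperm_eq hu' hr)
  have h3 : toSet u.2 = ∅ := by rw [hc.2]; exact toSet_zero_empty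
  rw [mv_elN hu', elN_congr (hd := CW_empty) h2 h3] at hmem
  have h4 : elN (⟨g, hgM⟩ : ↥M24)⁻¹ ∅ CW_empty = (elN ⟨g, hgM⟩ ∅ CW_empty)⁻¹ :=
    map_inv (MonoidHom.mk' (fun τ : ↥M24 => elN τ ∅ CW_empty) fun a b => Subtype.ext (Out1.el_hom_mul a b).symm) _
  rw [h4] at hmem
  exact inv_mem_iff.mp hmem

theorem odd_word : inCode 340831 = true ∧ pc (Nat.land 340831 tet) % 2 = 1 ∧
    (sysBasis.all fun c => decide (c < 2 ^ 24) && inCode c) = true := by decide +kernel

theorem UZ.signs (H : Amal ι zh) {UT : List (Mon × Mon)} (hU : stabOK UT = true) {c : Finset GolayPt} (hc : c ∈ CW)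
    (he : Even (c ∩ toSet tet).card) : elN 1 c hc ∈ UZ ι zh := by
  classical
  simp only [stabOK, Bool.and_eq_true, List.all_eq_true, List.any_eq_true] at hU
  obtain ⟨⟨hax, -⟩, hsign⟩ := hU
  obtain ⟨ho1, ho2, hbas⟩ := odd_word
  have hoC : toSet 340831 ∈ CW := toSet_mem_CW (by rw [ho1]; decide)
  have hodd : ¬ Even (toSet 340831 ∩ toSet tet).card := by
    rw [← toSet_and, card_toSet, Nat.even_iff]
    intro h
    have : (340831 &&& tet) = Nat.land 340831 tet := rfl
    rw [this] at h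
    omega
  have hneg : elN 1 Finset.univ CW_univ = 1 :=
    Subtype.ext ((Out1.el_one_iff.mpr (Or.inr rfl)).trans (OneMemClass.coe_one _).symm)
  let P : Finset GolayPt → Prop := fun c => ∃ d, ∃ hd : d ∈ CW,
    (d = c ∨ d = symmDiff c (toSet 340831)) ∧ Even (d ∩ toSet tet).card ∧ elN 1 d hd ∈ UZ ι zh
  have hadd : ∀ a b, P a → P b → P (symmDiff a b) := by
    rintro a b ⟨d, hd, hA, eA, gA⟩ ⟨d', hd', hB, eB, gB⟩
    refine ⟨symmDiff d d', CW_symmDiff hd hd', ?_, (even_symm_inter d d' _).mpr (iff_of_true eA eB), ?_⟩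
    · rcases hA with rfl | rfl <;> rcases hB with rfl | rfl
      · exact Or.inl rfl
      · exact Or.inr (symmDiff_assoc _ b _).symm
      · exact Or.inr (symmDiff_right_comm a _ _)
      · exact Or.inl (by rw [symmDiff_symmDiff_symmDiff_comm, symmDiff_self, symmDiff_bot])
    · have := mul_mem gA gB
      rwa [elN_signs] at this
  have huniv : Even ((Finset.univ : Finset GolayPt) ∩ toSet tet).card := by
    rw [Finset.univ_inter, card_toSet, show pc tet = 4 by decide +kernel]; decide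
  have hgen : ∀ e ∈ sysBasis, P (toSet e) := by
    intro e hemem
    have hb := List.all_eq_true.mp hbas e hemem
    have heC : toSet e ∈ CW := toSet_mem_CW hb
    obtain ⟨⟨u, v⟩, hp, hcase⟩ := hsign e hemem
    obtain ⟨⟨⟨hu, hv⟩, ha⟩, hev⟩ := hax _ hp
    have hu' := Valid.of_ok hu
    have hv' := Valid.of_ok hv
    simp only [Bool.or_eq_true, Nat.beq_eq] at hcase
    obtain ⟨hpid, hcase⟩ := hcase
    have hmem : mv u ∈ UZ ι zh := by
      refine ⟨mv v, ?_⟩
      have := H.ax (A := [u, oneM]) (B := [oneM, v])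
        (fun n hn => by
          simp only [List.mem_cons, List.not_mem_nil, or_false] at hn
          rcases hn with rfl | rfl
          exacts [hu', one_valid])
        (fun n hn => by
          simp only [List.mem_cons, List.not_mem_nil, or_false] at hn
          rcases hn with rfl | rfl
          exacts [one_valid, hv']) ha
      simpa [ev, mv_one] using this
    have h1 : mperm u hu' = 1 := Subtype.ext ((mperm_eq hu' (hpid ▸ repr_pid)).trans inv_one)
    rw [mv_elN hu', elN_congr (hd := hu'.2.1) h1 rfl] at hmem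
    have hev' : Even (toSet u.2 ∩ toSet tet).card := by
      rw [← toSet_and, card_toSet, Nat.even_iff]
      exact Nat.eq_of_beq_eq_true hev
    have hzero : ∀ hh : toSet 0 ∈ CW, elN 1 (toSet 0) hh = 1 := fun hh => Subtype.ext
      ((Out1.el_one_iff.mpr (Or.inl toSet_zero_empty)).trans (OneMemClass.coe_one _).symm)
    have hflip := mul_mem hmem (show elN 1 Finset.univ CW_univ ∈ UZ ι zh by rw [hneg]; exact one_mem _)
    rw [elN_signs] at hflip
    have hev2 : Even (symmDiff (toSet u.2) Finset.univ ∩ toSet tet).card :=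
      (even_symm_inter _ _ _).mpr (iff_of_true hev' huniv)
    rcases hcase with (((r | r) | r) | r) | r
    · exact ⟨_, hu'.2.1, Or.inl (congrArg toSet r), hev', hmem⟩
    · refine ⟨_, CW_symmDiff hu'.2.1 CW_univ, Or.inl ?_, hev2, hflip⟩
      rw [r, show Nat.xor e 16777215 = e ^^^ 16777215 from rfl, toSet_xor, full_set, symmDiff_assoc, symmDiff_self,
        symmDiff_bot]
    · refine ⟨_, hu'.2.1, Or.inr ?_, hev', hmem⟩
      rw [r, show Nat.xor e 340831 = e ^^^ 340831 from rfl, toSet_xor]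
    · refine ⟨_, CW_symmDiff hu'.2.1 CW_univ, Or.inr ?_, hev2, hflip⟩
      rw [r, show Nat.xor (Nat.xor e 340831) 16777215 = e ^^^ 340831 ^^^ 16777215 from rfl, toSet_xor, toSet_xor,
        full_set, symmDiff_assoc, symmDiff_self, symmDiff_bot]
    · subst r
      refine ⟨_, heC, Or.inl rfl, by rw [toSet_zero_empty]; simp, ?_⟩
      rw [hzero heC]; exact one_mem _
  have hP : P c := by
    obtain ⟨w, hw, rfl⟩ := hc
    have hs : toMask (support₂ w) ∈ spanList sysBasis := by
      have := toMask_support_mem hw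
      rwa [show codeL = spanList sysBasis from by unfold codeL; rfl] at this
    suffices ∀ l : List ℕ, (∀ e ∈ l, P (toSet e)) → ∀ m ∈ spanList l, P (toSet m) by
      have h2 := this sysBasis hgen _ hs
      rwa [toSet_toMask] at h2
    intro l
    induction l with
    | nil =>
      intro _ m hm
      simp only [spanList, List.mem_singleton] at hm
      subst hm
      have hh : toSet 0 ∈ CW := by rw [toSet_zero_empty]; exact CW_empty
      refine ⟨_, hh, Or.inl rfl, by rw [toSet_zero_empty]; simp, ?_⟩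
      have : elN 1 (toSet 0) hh = 1 := Subtype.ext
        ((Out1.el_one_iff.mpr (Or.inl toSet_zero_empty)).trans (OneMemClass.coe_one _).symm)
      rw [this]; exact one_mem _
    | cons e es ih =>
      intro hl m hm
      simp only [spanList, List.mem_flatMap, List.mem_cons, List.not_mem_nil, or_false] at hm
      obtain ⟨y, hy, rfl | rfl⟩ := hm
      · exact ih (fun z hz => hl z (List.mem_cons_of_mem _ hz)) _ hy
      · rw [toSet_xor]
        exact hadd _ _ (hl e List.mem_cons_self) (ih (fun z hz => hl z (List.mem_cons_of_mem _ hz)) _ hy)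
  obtain ⟨d, hd, hcase, hde, hdm⟩ := hP
  rcases hcase with rfl | rfl
  · exact hdm
  · exact absurd ((even_symm_inter c _ _).mp hde |>.mp he) hodd

theorem UZ.elN_mem (H : Amal ι zh) {UT : List (Mon × Mon)} (hU : stabOK UT = true) {τ : ↥M24}
    (hτ : (τ : Equiv.Perm GolayPt) ∈ stabM S0) {c : Finset GolayPt} (hc : c ∈ CW)
    (he : Even (c ∩ toSet tet).card) : elN τ c hc ∈ UZ ι zh := by
  obtain ⟨hM, hperm⟩ := UZ.perm H hU hτ
  rw [elN_split]
  exact mul_mem (UZ.signs H hU hc he) hperm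

theorem elN_factor (σ ρ : ↥M24) {ca cb c : Finset GolayPt} (ha : ca ∈ CW) (hb : cb ∈ CW) (hc : c ∈ CW)
    (h : c = (σ⁻¹ : ↥M24).1 • symmDiff ca cb) :
    elN ρ cb hb = elN σ ca ha * elN (σ⁻¹ * ρ) c hc := by
  subst h
  refine Subtype.ext ?_
  show Out1.el _ _ _ = Out1.el _ _ _ * Out1.el _ _ _
  rw [Out1.el_mul]
  refine Out1.el_congr (mul_inv_cancel_left σ ρ).symm ?_
  rw [InvMemClass.coe_inv, smul_inv_smul, symmDiff_symmDiff_cancel_left]

theorem factor_stab {σ ρ : ↥M24} (hS : (σ : Equiv.Perm GolayPt) • S0 = (ρ : Equiv.Perm GolayPt) • S0) :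
    ((σ⁻¹ * ρ : ↥M24) : Equiv.Perm GolayPt) ∈ stabM S0 := by
  refine mem_stabM.mpr ⟨(σ⁻¹ * ρ).2, ?_⟩
  rw [Subgroup.coe_mul, InvMemClass.coe_inv, mul_smul, ← hS, inv_smul_smul]

theorem even_pull {σ : Equiv.Perm GolayPt} {D T : Finset GolayPt} (h : Even (D ∩ σ • T).card) :
    Even ((σ⁻¹ • D) ∩ T).card := by
  rw [← Finset.card_smul_finset σ⁻¹, Finset.smul_finset_inter, inv_smul_smul] at h
  exact h

/-- Codes over the same edge give the same coset. -/
theorem Amal.same_cls (H : Amal ι zh) {UT : List (Mon × Mon)} (hU : stabOK UT = true) {a b : Mon} (ha : Valid a)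
    (hb : Valid b) (h6 : sameSix a b = true) (hev : evenAt a b = true) :
    ∃ v : ↥Out1.NI, ι (mv b) * zh = ι (mv a) * zh * ι v := by
  have hc : ((mperm a ha)⁻¹ : ↥M24).1 • symmDiff (toSet a.2) (toSet b.2) ∈ CW :=
    smul_CW ((mperm a ha)⁻¹).2 (CW_symmDiff ha.2.1 hb.2.1)
  have hce := even_pull ((even_iff ha).mp hev)
  obtain ⟨v, hv⟩ := UZ.elN_mem H hU (factor_stab (smul_S0 ha hb h6)) hc hce
  refine ⟨v, ?_⟩
  rw [mv_elN hb, mv_elN ha, elN_factor (mperm a ha) (mperm b hb) ha.2.1 hb.2.1 hc rfl, map_mul, mul_assoc, mul_assoc,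
    hv]

end CfsgLib.ConwayRec
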