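import Cfsg.Agent.Lib.ConwayRec.Classes

/-!
The group glued from the octad centralisers is covered by six double cosets of the monomial group.
-/

set_option autoImplicit false
set_option maxRecDepth 8000
set_option linter.unusedVariables false

namespace CfsgLib.ConwayRec

open Cfsg CfsgGolay CfsgLeech
open CfsgLib.CoTwoMult (forceN forceN_eq)
open scoped Pointwise

attribute [local irreducible] codeL octadL dodecadL slpCodes mco mv pullN nmM mc mperm

/-- A member of a list in pieces of sixty-four. -/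
def get64 {α : Type} (L : List (List α)) (d : α) (x : ℕ) : α := (L.getD (x / 64) []).getD (x % 64) d

/-- A representative of an edge class. -/
def lab (LR : List (List Mon)) (x : ℕ) : Mon := get64 LR oneM x

/-- The representatives are meaningful and the two over a sextet differ in parity. -/
noncomputable def labOK (LR : List (List Mon)) (lo n : ℕ) : Bool :=
  (List.range n).all fun s =>
    okM (lab LR (2 * (lo + s))) && okM (lab LR (2 * (lo + s) + 1)) &&
      Nat.beq (lab LR (2 * (lo + s))).1 (lab LR (2 * (lo + s) + 1)).1 &&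
      !evenAt (lab LR (2 * (lo + s))) (lab LR (2 * (lo + s) + 1))

/-- The generators of the permutation group carry sextets to listed sextets. -/
noncomputable def nxtOK (LR : List (List Mon)) (NX : List (List (List ℕ))) (lo n : ℕ) : Bool :=
  (List.range gM.length).all fun i => (List.range n).all fun s =>
    forceN (get64 (NX.getD i []) 0 (lo + s)) fun t =>
      Nat.blt t 1771 && okM (((gM.map GenT.c).getD i 0), 0) &&
        sameSix (mc (((gM.map GenT.c).getD i 0), 0) (lab LR (2 * (lo + s)))) (lab LR (2 * t))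

/-- The certificate. -/
structure Cert where
  /-- pairs of elements passing through the involution -/
  UT : List (Mon × Mon)
  /-- the rules -/
  R : List Rule
  /-- representatives of the edge classes -/
  LR : List (List Mon)
  /-- sextets moved by generators -/
  NX : List (List (List ℕ))
  /-- representatives of the double cosets -/
  WS : List (List Mon)
  /-- elements carried through a representative, with their rules -/
  ST : List (List (Mon × Mon × ℕ))
  /-- edges at a representative with their rules and targets -/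
  RT : List (List (ℕ × ℕ × ℕ × Mon × Mon))
  /-- the spreading over the edge classes -/
  MK : List (List (ℕ × ℕ × ℕ))

/-- The root edges at a representative. -/
noncomputable def rootOK (C : Cert) (k : ℕ) : Bool :=
  (C.RT.getD k []).all fun e =>
    match e with
    | (y, r, j, ng, m) =>
      Nat.blt y 3542 && Nat.blt r C.R.length && Nat.blt j 6 && okM ng && okM m &&
        eqW (C.R.getD r (.ax [] [] 0)).lhs (cat (C.WS.getD k []) [lab C.LR y, oneM]) &&
        eqW (C.R.getD r (.ax [] [] 0)).rhs (cat (cat [ng] (C.WS.getD j [])) [m])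

/-- The elements carried through a representative. -/
noncomputable def carryOK (C : Cert) (k : ℕ) : Bool :=
  (C.ST.getD k []).all fun e =>
    match e with
    | (g, h, r) =>
      Nat.blt r C.R.length && okM g && okM h &&
        eqW (C.R.getD r (.ax [] [] 0)).lhs (cat [g] (C.WS.getD k [])) &&
        eqW (C.R.getD r (.ax [] [] 0)).rhs (cat (C.WS.getD k []) [h])

/-- Spreading the reached classes. -/
noncomputable def spread (C : Cert) (k : ℕ) : List (ℕ × ℕ × ℕ) → ℕ → ℕ
  | [], S => S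
  | (x, i, y) :: L, S =>
    forceN (cond (bitF S x && Nat.blt i (C.ST.getD k []).length && Nat.blt y 3542 &&
        sameSix (lab C.LR y) (mc ((C.ST.getD k []).getD i (oneM, oneM, 0)).2.1 (lab C.LR x)) &&
        evenAt (lab C.LR y) (mc ((C.ST.getD k []).getD i (oneM, oneM, 0)).2.1 (lab C.LR x)))
      (Nat.lor S (Nat.pow 2 y)) 0) fun S' => spread C k L S'

/-- All classes are reached from the roots. -/
noncomputable def spreadOK (C : Cert) (k : ℕ) : Bool :=
  Nat.beq (spread C k (C.MK.getD k []) ((C.RT.getD k []).foldr (fun e S => Nat.lor S (Nat.pow 2 e.1)) 0))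
    (Nat.sub (Nat.pow 2 3542) 1)

/-- The shape of the list of representatives. -/
noncomputable def repsOK (C : Cert) : Bool :=
  Nat.beq C.WS.length 6 && C.WS.all okL && eqW (C.WS.getD 0 []) [oneM] && eqW (C.WS.getD 1 []) [oneM, oneM] && eqW [lab C.LR 0] [oneM]

/-- All checks. -/
structure Cert.OK (C : Cert) : Prop where
  stab : stabOK C.UT = true
  rules : ∀ k < C.R.length, ruleOK C.R k = true
  labs : ∀ s < 1771, labOK C.LR s 1 = true
  nxt : ∀ s < 1771, nxtOK C.LR C.NX s 1 = true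
  reps : repsOK C = true
  roots : ∀ k < 6, 0 < k → rootOK C k = true
  carry : ∀ k < 6, 0 < k → carryOK C k = true
  spreads : ∀ k < 6, 0 < k → spreadOK C k = true

theorem slice {f : ℕ → Bool} {lo n : ℕ} (h : ((List.range n).all fun s => f (lo + s)) = true) {s : ℕ}
    (h1 : lo ≤ s) (h2 : s < lo + n) : f s = true := by
  have := List.all_eq_true.mp h (s - lo) (List.mem_range.mpr (by omega))
  rwa [Nat.add_sub_cancel' h1] at this

theorem labOK.at {LR : List (List Mon)} {lo n s : ℕ} (h : labOK LR lo n = true) (h1 : lo ≤ s) (h2 : s < lo + n) :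
    labOK LR s 1 = true := by
  have := slice (f := fun s => okM (lab LR (2 * s)) && okM (lab LR (2 * s + 1)) &&
    Nat.beq (lab LR (2 * s)).1 (lab LR (2 * s + 1)).1 && !evenAt (lab LR (2 * s)) (lab LR (2 * s + 1))) h h1 h2
  simpa [labOK] using this

theorem nxtOK.at {LR : List (List Mon)} {NX : List (List (List ℕ))} {lo n s : ℕ} (h : nxtOK LR NX lo n = true)
    (h1 : lo ≤ s) (h2 : s < lo + n) : nxtOK LR NX s 1 = true := by
  simp only [nxtOK, List.all_eq_true, List.mem_range] at h ⊢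
  intro i hi t ht
  obtain rfl : t = 0 := by omega
  have := h i hi (s - lo) (by omega)
  rwa [Nat.add_sub_cancel' h1] at this

theorem sameSix_of {a b : Mon} (ha : Valid a) (hb : Valid b)
    (h : (mperm a ha : Equiv.Perm GolayPt) • S0 = (mperm b hb : Equiv.Perm GolayPt) • S0) : sameSix a b = true := by
  simp only [sameSix, List.all_eq_true, List.any_eq_true]
  intro y hy
  have hm : (mperm a ha : Equiv.Perm GolayPt) • toSet y ∈ (mperm b hb : Equiv.Perm GolayPt) • S0 :=
    h ▸ Finset.smul_mem_smul_finset (mem_six.mpr ⟨y, hy, rfl⟩)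
  obtain ⟨u, hu, e⟩ := Finset.mem_smul_finset.mp hm
  obtain ⟨w, hw, rfl⟩ := mem_six.mp hu
  refine ⟨w, hw, ?_⟩
  rw [Nat.beq_eq]
  refine eq_of_toSet_eq (pull_lt _ _) (pull_lt _ _) ?_
  rw [toSet_pull' ha, toSet_pull' hb, e]

theorem evenAt_or {a a' b : Mon} (ha : Valid a) (ha' : Valid a') (hp : a.1 = a'.1)
    (hodd : evenAt a a' = false) (hb : evenAt a b = false) : evenAt a' b = true := by
  obtain ⟨g, hg, -⟩ := ha.2.2
  have hm : (mperm a' ha' : Equiv.Perm GolayPt) = mperm a ha := by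
    rw [mperm_eq ha hg, mperm_eq ha' (hp ▸ hg)]
  rw [Bool.eq_false_iff, Ne, even_iff ha, even_symm_inter] at hodd hb
  rw [even_iff ha', even_symm_inter, hm]
  tauto

variable {G : Type*} [Group G] {ι : ↥Out1.NI →* G} {zh : G}

theorem lab_valid {C : Cert} (hC : C.OK) {x : ℕ} (hx : x < 3542) : Valid (lab C.LR x) := by
  have h := hC.labs (x / 2) (by omega)
  simp only [labOK, List.all_eq_true, List.mem_range, Bool.and_eq_true] at h
  obtain ⟨⟨⟨h1, h2⟩, -⟩, -⟩ := h 0 (by norm_num)
  rw [Nat.add_zero] at h1 h2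
  rcases Nat.mod_two_eq_zero_or_one x with r | r
  · rw [show x = 2 * (x / 2) by omega]; exact Valid.of_ok h1
  · rw [show x = 2 * (x / 2) + 1 by omega]; exact Valid.of_ok h2

/-- Every permutation sends the sextet to a listed one. -/
theorem moves {C : Cert} (hC : C.OK) {σ : Equiv.Perm GolayPt} (hσ : σ ∈ M24) :
    ∀ s, (hs : s < 1771) → ∃ t, ∃ ht : t < 1771,
      σ • ((mperm _ (lab_valid hC (show 2 * s < 3542 by omega)) : Equiv.Perm GolayPt) • S0) =
        (mperm _ (lab_valid hC (show 2 * t < 3542 by omega)) : Equiv.Perm GolayPt) • S0 := by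
  rw [← Gr_gM, Gr] at hσ
  have key : ∀ τ ∈ Subgroup.closure {g : Equiv.Perm GolayPt | ∃ e ∈ gM, e.Good g}, ∀ s, (hs : s < 1771) →
      ∃ t, ∃ ht : t < 1771,
      τ⁻¹ • ((mperm _ (lab_valid hC (show 2 * s < 3542 by omega)) : Equiv.Perm GolayPt) • S0) =
        (mperm _ (lab_valid hC (show 2 * t < 3542 by omega)) : Equiv.Perm GolayPt) • S0 := by
    intro τ hτ
    have hτ' : τ ∈ Submonoid.closure {g : Equiv.Perm GolayPt | ∃ e ∈ gM, e.Good g} := by
      rw [← Subgroup.closure_toSubmonoid_of_finite]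
      exact hτ
    clear hτ
    induction hτ' using Submonoid.closure_induction with
    | mem g hg =>
      obtain ⟨e, he, hgood⟩ := hg
      obtain ⟨i, hi, rfl⟩ := List.mem_iff_getElem.mp he
      intro s hs
      have h := hC.nxt s hs
      simp only [nxtOK, List.all_eq_true, List.mem_range, forceN_eq, Bool.and_eq_true, Nat.blt_eq] at h
      obtain ⟨⟨ht, hok⟩, h6⟩ := h i hi 0 (by norm_num)
      rw [Nat.add_zero] at ht h6
      rw [List.getD_eq_getElem _ _ (by rwa [List.length_map]), List.getElem_map] at hok h6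
      have hg' : Valid (gM[i].c, 0) := Valid.of_ok hok
      refine ⟨_, ht, ?_⟩
      have h1 := smul_S0 (hg'.mc (lab_valid hC (show 2 * s < 3542 by omega))) (lab_valid hC (show _ < 3542 by omega)) h6
      obtain ⟨k, hk, -⟩ := (lab_valid hC (show 2 * s < 3542 by omega)).2.2
      have hr : Repr (mc (gM[i].c, 0) (lab C.LR (2 * s))).1 (k * g) := by rw [mc_eq]; exact hk.comp hgood.1
      rw [mperm_eq _ hr] at h1
      rw [mperm_eq (lab_valid hC (show 2 * s < 3542 by omega)) hk, ← h1, mul_inv_rev, mul_smul]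
    | one => exact fun s hs => ⟨s, hs, by rw [inv_one, one_smul]⟩
    | mul x y _ _ ihx ihy =>
      intro s hs
      obtain ⟨t, ht, e⟩ := ihx s hs
      obtain ⟨u, hu, e'⟩ := ihy t ht
      exact ⟨u, hu, by rw [mul_inv_rev, mul_smul, e, e']⟩
  simpa using key σ⁻¹ (inv_mem hσ)

theorem lab_zero {C : Cert} (hC : C.OK) (h : Valid (lab C.LR 0)) : (mperm _ h : Equiv.Perm GolayPt) = 1 := by
  have h1 := hC.reps
  simp only [repsOK, Bool.and_eq_true] at h1
  have e : lab C.LR 0 = oneM := List.head_eq_of_cons_eq (eqW_eq h1.2)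
  refine (mperm_eq h (show Repr (lab C.LR 0).1 1 from ?_)).trans inv_one
  rw [e]
  exact repr_pid

/-- Every code lies over a listed class. -/
theorem exists_lab {C : Cert} (hC : C.OK) {n : Mon} (hn : Valid n) :
    ∃ x < 3542, sameSix (lab C.LR x) n = true ∧ evenAt (lab C.LR x) n = true := by
  obtain ⟨t, ht, e⟩ := moves hC (mperm n hn).2 0 (by norm_num)
  rw [lab_zero hC, one_smul] at e
  have hv := lab_valid hC (show 2 * t < 3542 by omega)
  have hv' := lab_valid hC (show 2 * t + 1 < 3542 by omega)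
  have h := hC.labs t ht
  simp only [labOK, List.all_eq_true, List.mem_range, Bool.and_eq_true, Bool.not_eq_true'] at h
  obtain ⟨⟨-, hp⟩, hodd⟩ := h 0 (by norm_num)
  rw [Nat.add_zero] at hp hodd
  have hpe := Nat.eq_of_beq_eq_true hp
  obtain ⟨g, hg, -⟩ := hv.2.2
  have hm : (mperm _ hv' : Equiv.Perm GolayPt) = mperm _ hv := by
    rw [mperm_eq hv hg, mperm_eq hv' (hpe ▸ hg)]
  rcases Bool.eq_false_or_eq_true (evenAt (lab C.LR (2 * t)) n) with r | r
  · exact ⟨2 * t, by omega, sameSix_of hv hn e.symm, r⟩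
  · exact ⟨2 * t + 1, by omega, sameSix_of hv' hn (by rw [hm]; exact e.symm), evenAt_or hv hv' hpe hodd r⟩

/-- A class reached at a representative. -/
def Reach (ι : ↥Out1.NI →* G) (zh : G) (C : Cert) (k x : ℕ) : Prop :=
  ∃ j < 6, ∃ a b : ↥Out1.NI, ev ι zh (C.WS.getD k []) * ι (mv (lab C.LR x)) * zh =
    ι a * ev ι zh (C.WS.getD j []) * ι b

theorem reps_valid {C : Cert} (hC : C.OK) (k : ℕ) : VW (C.WS.getD k []) := by
  have h1 := hC.reps
  simp only [repsOK, Bool.and_eq_true] at h1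
  rcases Nat.lt_or_ge k C.WS.length with hk | hk
  · rw [List.getD_eq_getElem _ _ hk]
    exact VW.of_ok (List.all_eq_true.mp h1.1.1.1.2 _ (List.getElem_mem hk))
  · rw [List.getD_eq_default _ _ hk]
    intro n hn
    simp at hn

theorem pair_valid {a b : Mon} (ha : Valid a) (hb : Valid b) : VW [a, b] := fun n hn => by
  simp only [List.mem_cons, List.not_mem_nil, or_false] at hn
  rcases hn with rfl | rfl
  exacts [ha, hb]

theorem single_valid {a : Mon} (ha : Valid a) : VW [a] := fun n hn => by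
  rw [List.mem_singleton.mp hn]; exact ha

theorem reach_root (H : Amal ι zh) {C : Cert} (hC : C.OK) {k : ℕ} (hk : k < 6) (h0 : 0 < k)
    {e : ℕ × ℕ × ℕ × Mon × Mon} (he : e ∈ C.RT.getD k []) : e.1 < 3542 ∧ Reach ι zh C k e.1 := by
  obtain ⟨y, r, j, ng, m⟩ := e
  have h := List.all_eq_true.mp (hC.roots k hk h0) _ he
  simp only [Bool.and_eq_true, Nat.blt_eq] at h
  obtain ⟨⟨⟨⟨⟨⟨hy, hr⟩, hj⟩, hng⟩, hm⟩, hl⟩, hrr⟩ := h
  obtain ⟨v1, v2, e⟩ := H.rules hC.rules r hr
  refine ⟨hy, j, hj, mv ng, mv m, ?_⟩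
  rw [eqW_eq hl, eqW_eq hrr,
    ev_cat ι zh (reps_valid hC k) (pair_valid (lab_valid hC hy) one_valid),
    ev_cat ι zh ((single_valid (Valid.of_ok hng)).catW (reps_valid hC j)) (single_valid (Valid.of_ok hm)),
    ev_cat ι zh (single_valid (Valid.of_ok hng)) (reps_valid hC j)] at e
  simpa [ev, mv_one, mul_assoc] using e

theorem reach_step (H : Amal ι zh) {C : Cert} (hC : C.OK) {k : ℕ} (hk : k < 6) (h0 : 0 < k) {x i y : ℕ}
    (hi : i < (C.ST.getD k []).length) (hx : x < 3542) (hy : y < 3542)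
    (h6 : sameSix (lab C.LR y) (mc ((C.ST.getD k []).getD i (oneM, oneM, 0)).2.1 (lab C.LR x)) = true)
    (hev : evenAt (lab C.LR y) (mc ((C.ST.getD k []).getD i (oneM, oneM, 0)).2.1 (lab C.LR x)) = true)
    (hR : Reach ι zh C k x) : Reach ι zh C k y := by
  obtain ⟨j, hj, a, b, e⟩ := hR
  rw [List.getD_eq_getElem _ _ hi] at h6 hev
  have h := List.all_eq_true.mp (hC.carry k hk h0) _ (List.getElem_mem hi)
  generalize (C.ST.getD k [])[i] = t at h h6 hev
  obtain ⟨g, w, r⟩ := t
  simp only [Bool.and_eq_true, Nat.blt_eq] at h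
  obtain ⟨⟨⟨⟨hr, hg⟩, hw⟩, hl⟩, hrr⟩ := h
  have hg' := Valid.of_ok hg
  have hw' := Valid.of_ok hw
  obtain ⟨v1, v2, er⟩ := H.rules hC.rules r hr
  rw [eqW_eq hl, eqW_eq hrr, ev_cat ι zh (single_valid hg') (reps_valid hC k),
    ev_cat ι zh (reps_valid hC k) (single_valid hw')] at er
  obtain ⟨v, hv⟩ := H.same_cls hC.stab (lab_valid hC hy) (hw'.mc (lab_valid hC hx)) h6 hev
  rw [mv_mc hw' (lab_valid hC hx), map_mul] at hv
  refine ⟨j, hj, mv g * a, b * v⁻¹, ?_⟩
  have e2 : ι (mv (lab C.LR y)) * zh = ι (mv w) * ι (mv (lab C.LR x)) * zh * (ι v)⁻¹ := by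
    rw [hv, mul_inv_cancel_right]
  rw [mul_assoc, e2, map_mul, map_mul, map_inv]
  calc ev ι zh (C.WS.getD k []) * (ι (mv w) * ι (mv (lab C.LR x)) * zh * (ι v)⁻¹)
      = (ev ι zh (C.WS.getD k []) * ι (mv w)) * ι (mv (lab C.LR x)) * zh * (ι v)⁻¹ := by group
    _ = ι (mv g) * (ev ι zh (C.WS.getD k []) * ι (mv (lab C.LR x)) * zh) * (ι v)⁻¹ := by
        rw [show ev ι zh (C.WS.getD k []) * ι (mv w) = ι (mv g) * ev ι zh (C.WS.getD k []) from er.symm]
        group
    _ = _ := by rw [e]; group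

theorem spread_spec (H : Amal ι zh) {C : Cert} (hC : C.OK) {k : ℕ} (hk : k < 6) (h0 : 0 < k) :
    ∀ (L : List (ℕ × ℕ × ℕ)) (S : ℕ), (∀ x, S.testBit x = true → x < 3542 ∧ Reach ι zh C k x) →
      ∀ x, (spread C k L S).testBit x = true → x < 3542 ∧ Reach ι zh C k x
  | [], S, hS, x, hx => hS x hx
  | (x', i, y) :: L, S, hS, x, hx => by
    rw [spread, forceN_eq] at hx
    refine spread_spec H hC hk h0 L _ (fun z hz => ?_) x hx
    cases hc : (bitF S x' && Nat.blt i (C.ST.getD k []).length && Nat.blt y 3542 &&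
        sameSix (lab C.LR y) (mc ((C.ST.getD k []).getD i (oneM, oneM, 0)).2.1 (lab C.LR x')) &&
        evenAt (lab C.LR y) (mc ((C.ST.getD k []).getD i (oneM, oneM, 0)).2.1 (lab C.LR x')))
    · rw [hc, cond_false] at hz
      simp at hz
    · rw [hc, cond_true, show ∀ a b, Nat.lor a b = a ||| b from fun _ _ => rfl, Nat.testBit_or, Bool.or_eq_true] at hz
      rcases hz with hz | hz
      · exact hS z hz
      · rw [show Nat.pow 2 y = 2 ^ y from rfl, Nat.testBit_two_pow, decide_eq_true_eq] at hz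
        subst hz
        simp only [Bool.and_eq_true, Nat.blt_eq, bitF_eq] at hc
        obtain ⟨⟨⟨⟨hb, hi⟩, hy⟩, h6⟩, hev⟩ := hc
        obtain ⟨hx', hR⟩ := hS x' hb
        exact ⟨hy, reach_step H hC hk h0 hi hx' hy h6 hev hR⟩

theorem fold_bits : ∀ (L : List (ℕ × ℕ × ℕ × Mon × Mon)) (x : ℕ),
    (L.foldr (fun e S => Nat.lor S (Nat.pow 2 e.1)) 0).testBit x = true → ∃ e ∈ L, e.1 = x
  | [], x, h => by simp at h
  | e :: L, x, h => by
    rw [List.foldr_cons, show ∀ a b, Nat.lor a b = a ||| b from fun _ _ => rfl, Nat.testBit_or, Bool.or_eq_true] at h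
    rcases h with h | h
    · obtain ⟨e', he, r⟩ := fold_bits L x h
      exact ⟨e', List.mem_cons_of_mem _ he, r⟩
    · rw [show Nat.pow 2 e.1 = 2 ^ e.1 from rfl, Nat.testBit_two_pow, decide_eq_true_eq] at h
      exact ⟨e, List.mem_cons_self, h⟩

theorem reach_all (H : Amal ι zh) {C : Cert} (hC : C.OK) {k : ℕ} (hk : k < 6) (h0 : 0 < k) {x : ℕ} (hx : x < 3542) :
    Reach ι zh C k x := by
  have h := Nat.eq_of_beq_eq_true (hC.spreads k hk h0)
  refine (spread_spec H hC hk h0 (C.MK.getD k [])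
    ((C.RT.getD k []).foldr (fun e S => Nat.lor S (Nat.pow 2 e.1)) 0) (fun z hz => ?_) x ?_).2
  · obtain ⟨e, he, rfl⟩ := fold_bits _ z hz
    exact reach_root H hC hk h0 he
  · rw [h, show Nat.sub (Nat.pow 2 3542) 1 = 2 ^ 3542 - 1 from rfl, Nat.testBit_two_pow_sub_one]
    exact decide_eq_true hx

theorem exists_code (a : ↥Out1.NI) : ∃ n : Mon, Valid n ∧ mv n = a := by
  obtain ⟨σ, c, hc, e⟩ := Out1.mem_NI.mp a.2
  obtain ⟨cd, hcd⟩ : ∃ cd, Repr cd (σ⁻¹ : ↥M24).1 :=
    ⟨pack (fun i => idx ((σ⁻¹ : ↥M24).1 (pt i))) 24, fun p => by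
      rw [((pack_spec (fun i => idx ((σ⁻¹ : ↥M24).1 (pt i))) (fun i => lt_trans (idx_lt _) (by norm_num))) 24).2 _
        (idx_lt p), pt_idx]⟩
  have hv : Valid (cd, toMask c) := ⟨toMask_lt c, by rw [toSet_toMask]; exact hc, _, hcd, (σ⁻¹ : ↥M24).2⟩
  refine ⟨_, hv, Subtype.ext ?_⟩
  rw [mv_el hv, e]
  refine Out1.el_congr (Subtype.ext ?_) (toSet_toMask c)
  rw [mperm_eq hv hcd, InvMemClass.coe_inv, inv_inv]

/-- The double cosets of the representatives are stable under the involution. -/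
theorem step_zh (H : Amal ι zh) {C : Cert} (hC : C.OK) {k : ℕ} (hk : k < 6) (b : ↥Out1.NI) :
    ∃ j < 6, ∃ a c : ↥Out1.NI, ev ι zh (C.WS.getD k []) * ι b * zh = ι a * ev ι zh (C.WS.getD j []) * ι c := by
  obtain ⟨n, hn, rfl⟩ := exists_code b
  rcases Nat.eq_zero_or_pos k with rfl | h0
  · have h1 := hC.reps
    simp only [repsOK, Bool.and_eq_true] at h1
    refine ⟨1, by norm_num, mv n, 1, ?_⟩
    rw [eqW_eq h1.1.1.2, eqW_eq h1.1.2]
    simp [ev, mv_one]
  obtain ⟨x, hx, h6, hev⟩ := exists_lab hC hn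
  obtain ⟨v, hv⟩ := H.same_cls hC.stab (lab_valid hC hx) hn h6 hev
  obtain ⟨j, hj, a, c, e⟩ := reach_all H hC hk h0 hx
  refine ⟨j, hj, a, c * v, ?_⟩
  rw [mul_assoc, hv, ← mul_assoc, ← mul_assoc, e, map_mul]
  group

/-- The generated subgroup is small. -/
theorem Amal.bound [Finite G] (H : Amal ι zh) {C : Cert} (hC : C.OK) :
    Nat.card ↥(Subgroup.closure (Set.range ι ∪ {zh})) ≤ 6 * (Nat.card ↥Out1.NI * Nat.card ↥Out1.NI) := by
  classical
  let T : Set G := {g | ∃ j < 6, ∃ a b : ↥Out1.NI, g = ι a * ev ι zh (C.WS.getD j []) * ι b}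
  have h1 := hC.reps
  simp only [repsOK, Bool.and_eq_true] at h1
  have hsub : ∀ g ∈ Subgroup.closure (Set.range ι ∪ {zh}), g ∈ T := by
    intro g hg
    rw [← Subgroup.mem_toSubmonoid, Subgroup.closure_toSubmonoid_of_finite] at hg
    induction hg using Submonoid.closure_induction_right with
    | one => exact ⟨0, by norm_num, 1, 1, by rw [eqW_eq h1.1.1.2]; simp [ev, mv_one]⟩
    | mul_right x _ y hy ih =>
      obtain ⟨j, hj, a, b, rfl⟩ := ih
      rcases hy with ⟨c, rfl⟩ | rfl
      · exact ⟨j, hj, a, b * c, by rw [map_mul]; group⟩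
      · obtain ⟨i, hi, a', c, e⟩ := step_zh H hC hj b
        exact ⟨i, hi, a * a', c, by
          calc ι a * ev ι y (C.WS.getD j []) * ι b * y = ι a * (ev ι y (C.WS.getD j []) * ι b * y) := by group
            _ = _ := by rw [e, map_mul]; group⟩
  haveI : Finite ↥Out1.NI := Nat.finite_of_card_ne_zero (by rw [Out1.NI_card]; norm_num)
  let f : Fin 6 × ↥Out1.NI × ↥Out1.NI → G := fun p => ι p.2.1 * ev ι zh (C.WS.getD p.1 []) * ι p.2.2
  have hle : (Subgroup.closure (Set.range ι ∪ {zh}) : Set G) ⊆ Set.range f := fun g hg => by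
    obtain ⟨j, hj, a, b, rfl⟩ := hsub g hg
    exact ⟨(⟨j, hj⟩, a, b), rfl⟩
  calc Nat.card ↥(Subgroup.closure (Set.range ι ∪ {zh})) ≤ Nat.card ↥(Set.range f) :=
        Nat.card_le_card_of_injective (Set.inclusion hle) (Set.inclusion_injective hle)
    _ ≤ Nat.card (Fin 6 × ↥Out1.NI × ↥Out1.NI) :=
        Nat.card_le_card_of_surjective _ Set.rangeFactorization_surjective
    _ = _ := by rw [Nat.card_prod, Nat.card_prod, Nat.card_eq_fintype_card (α := Fin 6), Fintype.card_fin]

end CfsgLib.ConwayRec
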